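import Groth.Agent.ZBQuotQP.NormMod
import Groth.Agent.AmpleX.Sect
import Groth.Agent.AmpleX.FiniteSet
import Groth.Agent.SGA1Q.Exists
import Groth.Prelude.Def_RelProj

/-!
# Quotients of quasi-projective schemes by finite groups
-/

set_option autoImplicit false
universe u

open CategoryTheory CategoryTheory.Limits AlgebraicGeometry TopologicalSpace

set_option backward.isDefEq.respectTransparency false
set_option backward.isDefEq.respectTransparency.types false

namespace Groth.Agent.ZBQuotQP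

open Groth.Agent

variable {X S : Scheme.{u}} {f : X ⟶ S}

/-- Finitely many points over an affine open lie in an affine generating locus. -/
theorem exists_sect_finite {L : X.Modules} (h : RelAmple.IsRelAmple f L) {W : S.Opens}
    (hW : IsAffineOpen W) {Z : Set X} (hZ : Z.Finite) (hZW : Z ⊆ (f ⁻¹ᵁ W : X.Opens)) :
    ∃ (m : ℕ) (_ : 0 < m) (a : Γ(CohB1.tensorPow L m, f ⁻¹ᵁ W)),
      Z ⊆ AmpleX.locus a ∧ IsAffineOpen (AmpleX.locus a) := by
  have hA := h.2 ⟨W, hW⟩
  let j := (f ⁻¹ᵁ W).ι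
  haveI := AmpleX.isSeparated_of_isAmple hA
  obtain ⟨n, s, hZs, -, hs⟩ := AmpleX.exists_finite_nhd hA
    (Z := j ⁻¹' Z) (hZ.preimage j.isOpenEmbedding.injective.injOn) (U := ⊤) (fun _ _ => trivial)
  obtain ⟨a, ha⟩ := AmpleX.exists_section_extendable j s
  refine ⟨n + 1, n.succ_pos,
    AModX.res (CohB1.tensorPow L (n + 1)) (f ⁻¹ᵁ W).ι_image_top.ge a, ?_⟩
  rw [AmpleX.locus_res, inf_eq_left.2 ((AmpleX.locus_le a).trans (f ⁻¹ᵁ W).ι_image_top.le), ha]
  exact ⟨fun x hx => ⟨⟨x, hZW hx⟩, hZs hx, rfl⟩, hs.image_of_isOpenImmersion j⟩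

variable {G : Type u} [Group G] [Finite G] (ρ : G →* Aut X) (hρ : ∀ σ : G, (ρ σ).hom ≫ f = f)

include hρ in
lemma map_act (g : G) (x : X) : f ((ρ g).hom x) = f x := by
  rw [← Scheme.Hom.comp_apply, hρ]

include hρ in
/-- Orbits lie in affine opens. -/
theorem exists_affine_orbit {L : X.Modules} (h : RelAmple.IsRelAmple f L) (x : X) :
    ∃ U : X.Opens, IsAffineOpen U ∧ ∀ g : G, (ρ g).hom x ∈ U := by
  obtain ⟨_, ⟨W, hW, rfl⟩, hxW, -⟩ :=
    S.isBasis_affineOpens.exists_subset_of_mem_open (Set.mem_univ (f x)) isOpen_univ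
  obtain ⟨m, -, a, ha, haff⟩ := exists_sect_finite h hW
    (Z := Set.range fun g : G => (ρ g).hom x) (Set.finite_range _)
    (by rintro _ ⟨g, rfl⟩; show f _ ∈ W; rw [map_act ρ hρ]; exact hxW)
  exact ⟨_, haff, fun g => ha ⟨g, rfl⟩⟩

variable {Y : Scheme.{u}} {p : X ⟶ Y} {q : Y ⟶ S}

include hρ in
/-- The norm of a relatively ample module is relatively ample. -/
theorem exists_isRelAmple_of_isQuot (hp : SGA1.IsQuot ρ p) (hq : p ≫ q = f) [IsFinite p]
    [QuasiCompact q] {L : X.Modules} (h : RelAmple.IsRelAmple f L) :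
    ∃ M : Y.Modules, RelAmple.IsRelAmple q M := by
  classical
  cases nonempty_fintype G
  have hL := AmpleX.isInvertible_of_isRelAmple h
  choose V hyV e he using fun y : Y => exists_frame_preimage p hL y
  have hV : ∀ y, ∃ i, y ∈ V i := fun y => ⟨y, hyV y⟩
  refine ⟨normMod hp he, AmpleX.isRelAmple_of_sections (isInvertible_normMod hp he hV) fun y => ?_⟩
  obtain ⟨_, ⟨W, hW, rfl⟩, hyW, -⟩ :=
    S.isBasis_affineOpens.exists_subset_of_mem_open (Set.mem_univ (q y)) isOpen_univ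
  refine ⟨W, hyW, QuasiCompact.isCompact_preimage (f := q) W W.isOpen hW.isCompact,
    fun y' hy' => ?_⟩
  have hfW : f ⁻¹ᵁ W = p ⁻¹ᵁ (q ⁻¹ᵁ W) := by rw [← Scheme.Hom.comp_preimage, hq]
  obtain ⟨m, hm, a₀, ha₀, haff₀⟩ := exists_sect_finite h hW (p.finite_preimage_singleton y')
    (fun x (hx : p x = y') => by
      show f x ∈ W
      rw [← hq, Scheme.Hom.comp_apply, hx]
      exact hy')
  let a := AModX.res (CohB1.tensorPow L m) hfW.ge a₀
  have hloc : AmpleX.locus a = AmpleX.locus a₀ := by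
    rw [AmpleX.locus_res, inf_eq_left.2 ((AmpleX.locus_le a₀).trans hfW.le)]
  obtain ⟨b, hb⟩ := exists_norm_section hp he hV a
  refine ⟨m, hm, b, ?_, ?_⟩
  · obtain ⟨x, rfl⟩ := SGA1Q.surjective hp y'
    rw [hb]
    intro g
    rw [hloc]
    refine ha₀ (show p ((ρ g).hom x) = p x from ?_)
    rw [← Scheme.Hom.comp_apply, hp.inv g]
  · let B := p ⁻¹ᵁ AmpleX.locus b
    have hB : B = ⨅ g : G, (ρ g).hom ⁻¹ᵁ AmpleX.locus a₀ := by
      refine Opens.ext (Set.ext fun x => ?_)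
      rw [Opens.coe_iInf, Set.mem_iInter]
      show p x ∈ AmpleX.locus b ↔ _
      rw [hb, hloc]
      rfl
    have hBaff : IsAffineOpen B := by
      let Z := f ⁻¹ᵁ W
      haveI : Z.toScheme.IsSeparated := AmpleX.isSeparated_of_isAmple (h.2 ⟨W, hW⟩)
      have hsub : ∀ g : G, (ρ g).hom ⁻¹ᵁ AmpleX.locus a₀ ≤ Z := fun g x hx => by
        have h1 : f ((ρ g).hom x) ∈ W := AmpleX.locus_le a₀ hx
        show f x ∈ W
        rwa [map_act ρ hρ] at h1
      have haff : ∀ g : G, IsAffineOpen (Z.ι ⁻¹ᵁ ((ρ g).hom ⁻¹ᵁ AmpleX.locus a₀)) := fun g => by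
        refine (Scheme.Hom.isAffineOpen_iff_of_isOpenImmersion Z.ι).1 ?_
        rw [Scheme.Hom.image_preimage_eq_opensRange_inf, Scheme.Opens.opensRange_ι,
          inf_eq_right.2 (hsub g)]
        exact haff₀.preimage_of_isIso (ρ g).hom
      have hB' := (IsAffineOpen.iInf haff).image_of_isOpenImmersion Z.ι
      convert hB' using 1
      rw [hB]
      refine Opens.ext (Set.ext fun x => ?_)
      simp only [Scheme.Hom.coe_image, Opens.coe_iInf, Set.mem_iInter, Set.mem_image]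
      refine ⟨fun hx => ⟨⟨x, hsub 1 (hx 1)⟩, fun g => hx g, rfl⟩, ?_⟩
      rintro ⟨z, hz, rfl⟩
      exact hz
    haveI : IsAffine B.toScheme := hBaff
    have hstab : ∀ g : G, B ≤ (ρ g).hom ⁻¹ᵁ B :=
      fun g => SGA1.preimage_le_of_inv ρ p hp.inv g _
    exact SGA1Q.isAffine_of_isQuot (X := B.toScheme)
      (SGA1Q.isQuot_morphismRestrict hp _ (SGA1Q.restrictAction ρ B hstab)
        (SGA1Q.restrictAction_hom_ι ρ B hstab))

include hρ in
/-- A quasi-projective scheme over a locally Noetherian base has a quasi-projective quotient by a finite group. -/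
theorem exists_isQuot_isQuasiProjective [IsLocallyNoetherian S] (hf : RelProj.IsQuasiProjective f) :
    ∃ (Y : Scheme.{u}) (p : X ⟶ Y) (q : Y ⟶ S),
      p ≫ q = f ∧ SGA1.IsQuot ρ p ∧ RelProj.IsQuasiProjective q := by
  obtain ⟨hft, hqc, L, hL⟩ := hf
  obtain ⟨Y, p, hp⟩ := SGA1Q.exists_quotient ρ (exists_affine_orbit ρ hρ hL)
  obtain ⟨q, hq, -⟩ := SGA1Q.desc_existsUnique_isQuot hp f hρ
  haveI := SGA1Q.isFinite_of_isQuot hp hq hft
  haveI := SGA1Q.quasiCompact_of_isQuot hp hq hqc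
  exact ⟨Y, p, q, hq, hp, SGA1Q.locallyOfFiniteType_of_isQuot hp hq hft, inferInstance,
    exists_isRelAmple_of_isQuot ρ hρ hp hq hL⟩

end Groth.Agent.ZBQuotQP
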