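import Groth.Agent.SGA1Q.Properties

/-!
# The norm along a quotient by a finite group

For a quotient `p : X ⟶ Y` by a finite group, the product of the conjugates of a function on `p⁻¹V` descends to `V`.
-/

set_option autoImplicit false
universe u

open CategoryTheory CategoryTheory.Limits AlgebraicGeometry TopologicalSpace

set_option backward.isDefEq.respectTransparency false
set_option backward.isDefEq.respectTransparency.types false

namespace Groth.Agent.ZBQuotQP

variable {X Y : Scheme.{u}} {G : Type u} [Group G] {ρ : G →* Aut X} {p : X ⟶ Y}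
  (hp : SGA1.IsQuot ρ p)

/-- The action of `g` on the sections over the preimage of `V`. -/
noncomputable def act (g : G) (V : Y.Opens) : Γ(X, p ⁻¹ᵁ V) →+* Γ(X, p ⁻¹ᵁ V) :=
  ((ρ g).hom.appLE (p ⁻¹ᵁ V) (p ⁻¹ᵁ V) (SGA1.preimage_le_of_inv ρ p hp.inv g V)).hom

lemma act_act (g g' : G) (V : Y.Opens) (a : Γ(X, p ⁻¹ᵁ V)) :
    act hp g' V (act hp g V a) = act hp (g * g') V a := by
  unfold act
  rw [← RingHom.comp_apply, ← CommRingCat.hom_comp, Scheme.Hom.appLE_comp_appLE,
    SGA1Q.appLE_congr_hom (SGA1Q.hom_mul ρ g g').symm _ (SGA1.preimage_le_of_inv ρ p hp.inv _ V)]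

lemma act_map (g : G) {V V' : Y.Opens} (h : V' ≤ V) (a : Γ(X, p ⁻¹ᵁ V)) :
    (X.presheaf.map (homOfLE (p.preimage_mono h)).op).hom (act hp g V a) =
      act hp g V' ((X.presheaf.map (homOfLE (p.preimage_mono h)).op).hom a) := by
  unfold act
  rw [← RingHom.comp_apply, ← CommRingCat.hom_comp, Scheme.Hom.appLE_map,
    ← RingHom.comp_apply, ← CommRingCat.hom_comp, Scheme.Hom.map_appLE]

variable [Fintype G]

/-- The product of the conjugates. -/
noncomputable def prodAct (V : Y.Opens) : Γ(X, p ⁻¹ᵁ V) →* Γ(X, p ⁻¹ᵁ V) where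
  toFun a := ∏ g, act hp g V a
  map_one' := Finset.prod_eq_one fun g _ => map_one _
  map_mul' a b := by simp only [map_mul]; exact Finset.prod_mul_distrib

lemma act_prodAct (g : G) (V : Y.Opens) (a : Γ(X, p ⁻¹ᵁ V)) :
    act hp g V (prodAct hp V a) = prodAct hp V a := by
  show act hp g V (∏ g', act hp g' V a) = ∏ g', act hp g' V a
  rw [map_prod]
  exact Fintype.prod_equiv (Equiv.mulRight g) _ _ fun g' => act_act hp g' g V a

lemma exists_norm (V : Y.Opens) (a : Γ(X, p ⁻¹ᵁ V)) :
    ∃ b : Γ(Y, V), (p.app V).hom b = prodAct hp V a :=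
  (hp.range_iff V _).2 fun g => act_prodAct hp g V a

/-- The norm of a function on `p⁻¹V`, a function on `V`. -/
noncomputable def norm (V : Y.Opens) : Γ(X, p ⁻¹ᵁ V) →* Γ(Y, V) where
  toFun a := (exists_norm hp V a).choose
  map_one' := hp.injective V ((exists_norm hp V 1).choose_spec.trans
    ((map_one _).trans (map_one _).symm))
  map_mul' a b := hp.injective V ((exists_norm hp V _).choose_spec.trans
    ((map_mul (prodAct hp V) a b).trans ((congrArg₂ (· * ·) (exists_norm hp V a).choose_spec.symm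
      (exists_norm hp V b).choose_spec.symm).trans (map_mul _ _ _).symm)))

lemma app_norm (V : Y.Opens) (a : Γ(X, p ⁻¹ᵁ V)) :
    (p.app V).hom (norm hp V a) = prodAct hp V a :=
  (exists_norm hp V a).choose_spec

lemma map_norm {V V' : Y.Opens} (h : V' ≤ V) (a : Γ(X, p ⁻¹ᵁ V)) :
    (Y.presheaf.map (homOfLE h).op).hom (norm hp V a) =
      norm hp V' ((X.presheaf.map (homOfLE (p.preimage_mono h)).op).hom a) := by
  refine hp.injective V' ?_
  rw [app_norm, ← RingHom.comp_apply, ← CommRingCat.hom_comp, Scheme.Hom.naturality,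
    CommRingCat.hom_comp, RingHom.comp_apply, app_norm]
  show (X.presheaf.map (homOfLE (p.preimage_mono h)).op).hom (∏ g, act hp g V a) = ∏ g, _
  rw [map_prod]
  exact Finset.prod_congr rfl fun g _ => act_map hp g h a

/-- Where the norm is invertible. -/
lemma mem_basicOpen_norm {V : Y.Opens} {a : Γ(X, p ⁻¹ᵁ V)} {x : X} :
    p x ∈ Y.basicOpen (norm hp V a) ↔ ∀ g : G, (ρ g).hom x ∈ X.basicOpen a := by
  have hx : p x ∈ Y.basicOpen (norm hp V a) ↔ x ∈ X.basicOpen (prodAct hp V a) := by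
    rw [← app_norm hp V a, ← Scheme.preimage_basicOpen]
    rfl
  have hpre : ∀ g : G, X.basicOpen (act hp g V a) = (p ⁻¹ᵁ V) ⊓ (ρ g).hom ⁻¹ᵁ X.basicOpen a :=
    fun g => Scheme.basicOpen_appLE ..
  rw [hx]
  by_cases hxV : x ∈ p ⁻¹ᵁ V
  · rw [Scheme.mem_basicOpen X _ x hxV]
    show IsUnit (X.presheaf.germ (p ⁻¹ᵁ V) x hxV (∏ g, act hp g V a)) ↔ _
    rw [map_prod, IsUnit.prod_iff]
    refine forall_congr' fun g => ?_
    rw [← Scheme.mem_basicOpen X _ x hxV, hpre, Opens.mem_inf]
    simp only [Finset.mem_univ, forall_const, hxV, true_and]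
    rfl
  · refine iff_of_false (fun h => hxV (X.basicOpen_le _ h)) fun h => hxV ?_
    have h1 : (ρ 1).hom x ∈ p ⁻¹ᵁ V := X.basicOpen_le _ (h 1)
    rwa [SGA1Q.hom_one] at h1

end Groth.Agent.ZBQuotQP
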