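import Groth.Agent.ZBQuotQP.Norm
import Groth.Agent.H23.CocycleMod
import Groth.Agent.AmpleX.Extend
import Groth.Agent.AmpleX.Locus
import Groth.Agent.InvUfdLib.Semilocal

/-!
# The norm of an invertible module along a quotient by a finite group

An invertible module on `X` is trivial on the preimages of a cover of `Y` (the quotient map is finite); the norms of
its transition functions define an invertible module on `Y`, and the norms of sections are sections.
-/

set_option autoImplicit false
universe u

open CategoryTheory CategoryTheory.Limits AlgebraicGeometry TopologicalSpace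

set_option backward.isDefEq.respectTransparency false
set_option backward.isDefEq.respectTransparency.types false

namespace Groth.Agent.ZBQuotQP

open Groth.Agent.AModX Groth.Agent.InvX

variable {X Y : Scheme.{u}}

/-- An invertible module is trivial over the preimage of a neighbourhood of each point, for a finite morphism. -/
lemma exists_frame_preimage (π : X ⟶ Y) [IsFinite π] {L : X.Modules} (hL : PicF.IsInvertible L) (y : Y) :
    ∃ (V : Y.Opens) (_ : y ∈ V) (e : Γ(L, π ⁻¹ᵁ V)), IsFrame e := by
  obtain ⟨_, ⟨V₀, hV₀, rfl⟩, hyV₀, -⟩ :=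
    Y.isBasis_affineOpens.exists_subset_of_mem_open (Set.mem_univ y) isOpen_univ
  have hd : ∀ x ∈ π ⁻¹' {y}, ∀ x' ∈ π ⁻¹' {y}, x ⤳ x' → x = x' := by
    intro x hx x' hx' h
    have := (π.isDiscrete_preimage_singleton y).1
    have h' : (⟨x, hx⟩ : π ⁻¹' {y}) ⤳ ⟨x', hx'⟩ := (subtype_specializes_iff _ _).2 h
    exact congrArg Subtype.val h'.eq
  obtain ⟨O, s, hFO, hs⟩ := InvUfdLib.exists_frame_finset hL (hV₀.preimage π) (π ⁻¹' {y})
    (π.finite_preimage_singleton y)
    (fun x (hx : π x = y) => show π x ∈ V₀ from hx ▸ hyV₀) hd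
  let V : Y.Opens := ⟨(π '' ((O : Set X)ᶜ))ᶜ,
    (π.isClosedMap _ O.isOpen.isClosed_compl).isOpen_compl⟩
  have hle : π ⁻¹ᵁ V ≤ O := fun x hx => not_not.1 fun h => hx ⟨x, h, rfl⟩
  refine ⟨V, ?_, res L hle s, hs.res hle⟩
  rintro ⟨x, hx, rfl⟩
  exact hx (hFO rfl)

variable {G : Type u} [Group G] [Fintype G] {ρ : G →* Aut X} {p : X ⟶ Y} (hp : SGA1.IsQuot ρ p)
  {L : X.Modules} {ι : Type u} {V : ι → Y.Opens} {e : ∀ i, Γ(L, p ⁻¹ᵁ V i)}
  (he : ∀ i, IsFrame (e i))

/-- Transition function of the frames on the preimage of `W`. -/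
noncomputable def trans' (i j : ι) (W : Y.Opens) (hi : W ≤ V i) (hj : W ≤ V j) : Γ(X, p ⁻¹ᵁ W) :=
  ((he j).exists_coord (p.preimage_mono hj) (res L (p.preimage_mono hi) (e i))).choose

lemma trans'_spec (i j : ι) (W : Y.Opens) (hi : W ≤ V i) (hj : W ≤ V j) :
    res L (p.preimage_mono hi) (e i) = trans' he i j W hi hj • res L (p.preimage_mono hj) (e j) :=
  ((he j).exists_coord (p.preimage_mono hj) (res L (p.preimage_mono hi) (e i))).choose_spec

lemma trans'_trans (i j k : ι) (W : Y.Opens) (hi : W ≤ V i) (hj : W ≤ V j) (hk : W ≤ V k) :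
    trans' he i k W hi hk = trans' he j k W hj hk * trans' he i j W hi hj :=
  (he k).coord_unique (p.preimage_mono hk) (by
    rw [← trans'_spec, mul_comm, mul_smul, ← trans'_spec, ← trans'_spec])

lemma trans'_self (i : ι) (W : Y.Opens) (hi : W ≤ V i) : trans' he i i W hi hi = 1 :=
  (he i).coord_unique (p.preimage_mono hi) (by rw [← trans'_spec, one_smul])

lemma trans'_res (i j : ι) {W W' : Y.Opens} (h : W' ≤ W) (hi : W ≤ V i) (hj : W ≤ V j) :
    resR (p.preimage_mono h) (trans' he i j W hi hj) = trans' he i j W' (h.trans hi) (h.trans hj) :=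
  (he j).coord_unique (p.preimage_mono (h.trans hj)) (by
    rw [← trans'_spec]
    have := congrArg (res L (p.preimage_mono h)) (trans'_spec he i j W hi hj)
    rw [res_smul, res_res, res_res] at this
    exact this.symm)

lemma map_norm' {W W' : Y.Opens} (h : W' ≤ W) (a : Γ(X, p ⁻¹ᵁ W)) :
    resR h (norm hp W a) = norm hp W' (resR (p.preimage_mono h) a) :=
  map_norm hp h a

/-- The norm cocycle. -/
noncomputable def normCocycle : H23.CocycleMod.Cocycle V where
  g i j := (IsUnit.of_mul_eq_one
    (a := norm hp (V i ⊓ V j) (trans' he i j _ inf_le_left inf_le_right))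
    (norm hp (V i ⊓ V j) (trans' he j i _ inf_le_right inf_le_left)) (by
      rw [← map_mul, ← trans'_trans he j i j _ inf_le_right inf_le_left inf_le_right,
        trans'_self, map_one])).unit
  trans i j k W hi hj hk := by
    simp only [IsUnit.unit_spec, map_norm' hp]
    rw [trans'_res he i k (le_inf hi hk), trans'_res he j k (le_inf hj hk),
      trans'_res he i j (le_inf hi hj), ← map_mul, ← trans'_trans]

/-- The norm of `L`. -/
noncomputable def normMod : Y.Modules := H23.CocycleMod.mod (normCocycle hp he)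

/-- Its frames. -/
noncomputable def normFrame (i : ι) : Γ(normMod hp he, V i) :=
  H23.CocycleMod.frame (normCocycle hp he) i

lemma isFrame_normFrame (i : ι) : IsFrame (normFrame hp he i) :=
  H23.CocycleMod.isFrame_frame _ i

lemma res_normFrame (i j : ι) (W : Y.Opens) (hi : W ≤ V i) (hj : W ≤ V j) :
    res (normMod hp he) hi (normFrame hp he i) =
      norm hp W (trans' he i j W hi hj) • res (normMod hp he) hj (normFrame hp he j) := by
  have h : res (normMod hp he) (inf_le_left : V i ⊓ V j ≤ V i) (normFrame hp he i) =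
      norm hp (V i ⊓ V j) (trans' he i j _ inf_le_left inf_le_right) •
        res (normMod hp he) inf_le_right (normFrame hp he j) :=
    H23.CocycleMod.res_frame (normCocycle hp he) i j
  have h2 := congrArg (res (normMod hp he) (le_inf hi hj)) h
  rwa [res_smul, res_res, res_res, map_norm' hp, trans'_res he i j (le_inf hi hj)] at h2

variable (hV : ∀ y, ∃ i, y ∈ V i)

include hV in
lemma isInvertible_normMod : PicF.IsInvertible (normMod hp he) :=
  H23.CocycleMod.isInvertible _ (top_le_iff.1 fun y _ => Opens.mem_iSup.2 (hV y))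

include hV in
/-- The norm of a section of a power of `L` on the preimage of `W`, and where it generates. -/
theorem exists_norm_section {W : Y.Opens} {m : ℕ} (a : Γ(CohB1.tensorPow L m, p ⁻¹ᵁ W)) :
    ∃ b : Γ(CohB1.tensorPow (normMod hp he) m, W),
      ∀ x : X, p x ∈ AmpleX.locus b ↔ ∀ g : G, (ρ g).hom x ∈ AmpleX.locus a := by
  classical
  have hF := fun i => AmpleX.isFrame_powElt (he i) m
  have hN := fun i => AmpleX.isFrame_powElt (isFrame_normFrame hp he i) m
  have hc := fun i => (hF i).exists_coord (p.preimage_mono (inf_le_right : W ⊓ V i ≤ V i))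
    (res (CohB1.tensorPow L m) (p.preimage_mono (inf_le_left : W ⊓ V i ≤ W)) a)
  choose c hc using hc
  obtain ⟨b, hb, -⟩ := existsUnique_glue (M := CohB1.tensorPow (normMod hp he) m) (V := W)
    (fun i => W ⊓ V i) (fun _ => inf_le_left) (fun y hy => (hV y).imp fun i hi => ⟨hy, hi⟩)
    (fun i => norm hp (W ⊓ V i) (c i) • res _ inf_le_right (AmpleX.powElt (normFrame hp he i) m))
    fun i j => by
      let U := (W ⊓ V i) ⊓ (W ⊓ V j)
      have hUi : U ≤ V i := inf_le_left.trans inf_le_right
      have hUj : U ≤ V j := inf_le_right.trans inf_le_right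
      rw [res_smul, res_smul, res_res, res_res, AmpleX.res_powElt, AmpleX.res_powElt,
        res_normFrame hp he i j U hUi hUj, AmpleX.powElt_smul, ← mul_smul, map_norm' hp,
        map_norm' hp, ← map_pow, ← map_mul]
      congr 2
      refine (hF j).coord_unique (p.preimage_mono hUj) ?_
      have h1 := congrArg (res (CohB1.tensorPow L m)
        (p.preimage_mono (inf_le_left : U ≤ W ⊓ V i))) (hc i)
      have h2 := congrArg (res (CohB1.tensorPow L m)
        (p.preimage_mono (inf_le_right : U ≤ W ⊓ V j))) (hc j)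
      rw [res_smul, res_res, res_res] at h1 h2
      rw [← h2, h1, mul_smul]
      congr 1
      rw [AmpleX.res_powElt, AmpleX.res_powElt, trans'_spec he i j U hUi hUj, AmpleX.powElt_smul]
  refine ⟨b, fun x => ?_⟩
  by_cases hxW : p x ∈ W
  swap
  · refine iff_of_false (fun h => hxW (AmpleX.locus_le b h)) fun h => hxW ?_
    have h1 : (ρ 1).hom x ∈ p ⁻¹ᵁ W := AmpleX.locus_le a (h 1)
    rwa [SGA1Q.hom_one] at h1
  obtain ⟨i, hi⟩ := hV (p x)
  have hbi := AmpleX.locus_inf b _ ((hN i).res inf_le_right) (hb i)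
  have hai := AmpleX.locus_inf a _ ((hF i).res _) (hc i)
  have hxWi : p x ∈ W ⊓ V i := ⟨hxW, hi⟩
  have h1 : p x ∈ AmpleX.locus b ↔ p x ∈ Y.basicOpen (norm hp (W ⊓ V i) (c i)) := by
    rw [← hbi]
    exact ⟨fun h => ⟨h, hxWi⟩, fun h => h.1⟩
  rw [h1, mem_basicOpen_norm]
  refine forall_congr' fun g => ?_
  rw [← hai]
  refine ⟨fun h => h.1, fun h => ⟨h, ?_⟩⟩
  show p ((ρ g).hom x) ∈ W ⊓ V i
  rwa [← Scheme.Hom.comp_apply, hp.inv g]

end Groth.Agent.ZBQuotQP
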